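import Groth.Agent.L05.Henselization.Pair
import Groth.Agent.L05.Henselization.StrictUniq
import Groth.Agent.L20.WeaklyEtaleStalk
import Groth.Agent.L27.IndEtalePerm
import Mathlib.RingTheory.Localization.Away.Basic

/-!
# Henselizations of pairs over basic opens, by their universal property
-/

universe u

namespace Groth.L05.HensSheaf

variable {A : Type u} [CommRing A]

/-- The properties used of a henselization of `(A_g, I A_g)`. -/
structure IsAwayHens (I : Ideal A) (g : A) (B : Type u) [CommRing B] [Algebra A B] : Prop where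
  henselian : HenselianRing B (I.map (algebraMap A B))
  isUnit : IsUnit (algebraMap A B g)
  weaklyEtale : Algebra.WeaklyEtale A B
  approx : ∀ b : B, ∃ (n : ℕ) (a : A), algebraMap A B g ^ n * b - algebraMap A B a ∈ I.map (algebraMap A B)
  universal : ∀ (C : Type u) [CommRing C] (J : Ideal C) (φ : A →+* C), HenselianRing C J → IsUnit (φ g) →
    I.map φ ≤ J → ∃! ψ : B →+* C, ψ.comp (algebraMap A B) = φ

set_option linter.style.haveILetI false in
theorem isAwayHens_of_isPairHenselization (I : Ideal A) (g : A) (Ag : Type u) [CommRing Ag] [Algebra A Ag]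
    [IsLocalization.Away g Ag] (B : Type u) [CommRing B] [Algebra Ag B] [Algebra A B] [IsScalarTower A Ag B]
    (hB : Hens2.IsPairHenselization Ag (I.map (algebraMap A Ag)) B) : IsAwayHens I g B := by
  have hmap : (I.map (algebraMap A Ag)).map (algebraMap Ag B) = I.map (algebraMap A B) := by
    rw [Ideal.map_map, ← IsScalarTower.algebraMap_eq]
  refine ⟨hmap ▸ hB.1, ?_, ?_, fun b => ?_, fun C _ J φ hC hu hle => ?_⟩
  · rw [IsScalarTower.algebraMap_apply A Ag B]
    exact (IsLocalization.Away.algebraMap_isUnit g).map _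
  · haveI := Groth.L20.weaklyEtale_isLocalization (B := A) (Submonoid.powers g) Ag
    obtain ⟨e, -⟩ := Henselization.isPairHenselization_algEquiv Ag _
      (Henselization.isPairHenselization Ag (I.map (algebraMap A Ag))) hB
    haveI : Algebra.WeaklyEtale Ag B := Groth.L27.IndEtale.weaklyEtale Ag B
      (Henselization.isIndEtale_of_algEquiv e Henselization.isIndEtale)
    exact Algebra.WeaklyEtale.trans A Ag B
  · obtain ⟨q, hq⟩ := (Henselization.quotientMap_pow_bijective Ag _ hB 1).2 (Ideal.Quotient.mk _ b)
    obtain ⟨c, rfl⟩ := Ideal.Quotient.mk_surjective q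
    rw [Ideal.quotientMap_mk, Ideal.Quotient.eq, pow_one, hmap] at hq
    obtain ⟨a, ⟨_, n, rfl⟩, rfl⟩ := IsLocalization.exists_mk'_eq (Submonoid.powers g) c
    refine ⟨n, a, ?_⟩
    have h1 : algebraMap A B g ^ n * algebraMap Ag B (IsLocalization.mk' Ag a
        (⟨g ^ n, n, rfl⟩ : Submonoid.powers g)) = algebraMap A B a := by
      rw [← map_pow, IsScalarTower.algebraMap_apply A Ag B, ← map_mul, mul_comm,
        IsLocalization.mk'_spec, ← IsScalarTower.algebraMap_apply]
    have := Ideal.mul_mem_left _ (algebraMap A B g ^ n) (neg_mem hq)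
    rwa [neg_sub, mul_sub, h1] at this
  · obtain ⟨ψ, hψ, hu'⟩ := hB.2 C J (IsLocalization.Away.lift g hu) hC (by
      rw [Ideal.map_map, IsLocalization.Away.lift_comp]
      exact hle)
    refine ⟨ψ, ?_, fun ψ' hψ' => hu' ψ' ?_⟩
    · show ψ.comp (algebraMap A B) = φ
      rw [IsScalarTower.algebraMap_eq A Ag B, ← RingHom.comp_assoc, hψ, IsLocalization.Away.lift_comp]
    · refine IsLocalization.ringHom_ext (Submonoid.powers g) ?_
      rw [IsLocalization.Away.lift_comp, RingHom.comp_assoc, ← IsScalarTower.algebraMap_eq]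
      exact hψ'

theorem isAwayHens_one (I : Ideal A) (H : Type u) [CommRing H] [Algebra A H]
    (hH : Hens2.IsPairHenselization A I H) : IsAwayHens I 1 H := by
  haveI : IsLocalization.Away (1 : A) A := IsLocalization.away_of_isUnit_of_bijective A isUnit_one Function.bijective_id
  refine isAwayHens_of_isPairHenselization I 1 A H ?_
  rwa [Algebra.algebraMap_self, Ideal.map_id]

end Groth.L05.HensSheaf
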