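import Groth.Agent.L05.HensSheaf.Points
import Mathlib.FieldTheory.IsAlgClosed.AlgebraicClosure
import Mathlib.LinearAlgebra.TensorProduct.Pi
import Mathlib.RingTheory.Flat.Basic
import Mathlib.LinearAlgebra.TensorProduct.RightExactness

/-!
# The sheaf property of henselizations along basic opens
-/

universe u

open TensorProduct

namespace Groth.L05.HensSheaf

set_option linter.style.haveILetI false

variable {A H : Type u} [CommRing A] [CommRing H] [Algebra A H] {I : Ideal A}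
  {ι : Type u} {g : ι → A} {B : ι → Type u} [∀ i, CommRing (B i)] [∀ i, Algebra A (B i)]
  {C : ι → ι → Type u} [∀ i j, CommRing (C i j)] [∀ i j, Algebra A (C i j)]
  (s : ∀ i, B i) (hcov : I ⊔ Ideal.span (Set.range g) = ⊤) (hH : IsAwayHens I 1 H)
  (hB : ∀ i, IsAwayHens I (g i) (B i)) (hC : ∀ i j, IsAwayHens I (g i * g j) (C i j))
  (a : ∀ i j, B i →ₐ[A] C i j) (b : ∀ i j, B j →ₐ[A] C i j) (hs : ∀ i j, a i j (s i) = b i j (s j))
  (ρ : ∀ i, H →ₐ[A] B i)

section Rel

variable {K : Type u} [Field K] [IsAlgClosed K] [Algebra H K] [Algebra A K] [IsScalarTower A H K]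

include hcov in
theorem exists_notMem (v : Ideal (integralClosure H K)) [v.IsPrime]
    (hI : I.map (algebraMap A (integralClosure H K)) ≤ v) :
    ∃ i, algebraMap A (integralClosure H K) (g i) ∉ v := by
  by_contra! h
  have h1 : I ⊔ Ideal.span (Set.range g) ≤ v.comap (algebraMap A (integralClosure H K)) :=
    sup_le (Ideal.map_le_iff_le_comap.mp hI) (Ideal.span_le.mpr (by rintro _ ⟨i, rfl⟩; exact h i))
  rw [hcov] at h1
  exact Ideal.IsPrime.ne_top (Ideal.IsPrime.comap (K := v) (algebraMap A (integralClosure H K))) (top_le_iff.mp h1)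

include hB hC hs in
theorem rel_of_canon {v : Ideal (integralClosure H K)} [v.IsPrime]
    (hI : I.map (algebraMap A (integralClosure H K)) ≤ v) {i j : ι}
    (hi : algebraMap A (integralClosure H K) (g i) ∉ v) (hj : algebraMap A (integralClosure H K) (g j) ∉ v)
    {σ : B i →ₐ[A] K} {τ : B j →ₐ[A] K} (hσ : IsCanon v σ) (hτ : IsCanon v τ) : Rel s σ τ := by
  obtain ⟨θ, ⟨θ', hθ'⟩, -⟩ := exists_canon (H := H) (K := K) (g := fun _ : ι => g i * g j)
    (B := fun _ : ι => C i j) v (i := i) (hC i j) hI (by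
      rw [map_mul]
      exact fun h => (‹v.IsPrime›.mem_or_mem h).elim hi hj)
  obtain ⟨σ₀, -, hu⟩ := exists_canon (H := H) (K := K) v (hB i) hI hi
  obtain ⟨τ₀, -, hv⟩ := exists_canon (H := H) (K := K) v (hB j) hI hj
  have h1 : θ.comp (a i j) = σ := (hu _ ⟨θ'.comp (a i j).toRingHom, by
    rw [← RingHom.comp_assoc, hθ']; rfl⟩).trans (hu _ hσ).symm
  have h2 : θ.comp (b i j) = τ := (hv _ ⟨θ'.comp (b i j).toRingHom, by
    rw [← RingHom.comp_assoc, hθ']; rfl⟩).trans (hv _ hτ).symm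
  haveI := (hB i).weaklyEtale
  haveI := (hB j).weaklyEtale
  haveI : Module.Flat A (C i j) := (hC i j).weaklyEtale.flat
  rw [← h1, ← h2]
  exact rel_of_common s (a i j) (b i j) (hs i j) θ

include hcov hH hB hC hs in
/-- Any two geometric points over one point of the base are related. -/
theorem rel_all {i j : ι} (σ : B i →ₐ[A] K) (τ : B j →ₐ[A] K)
    (hσ : ∀ x, σ (ρ i x) = algebraMap H K x) (hτ : ∀ x, τ (ρ j x) = algebraMap H K x) : Rel s σ τ := by
  classical
  haveI := hH.weaklyEtale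
  haveI : ∀ i, Module.Flat A (B i) := fun i => (hB i).weaklyEtale.flat
  obtain ⟨v₀, _, hI₀, hi₀, hc₀⟩ := exists_prime_canon (A := A) (H := H) (hB i) σ (ρ i) hσ
  obtain ⟨v₁, _, hI₁, hj₁, hc₁⟩ := exists_prime_canon (A := A) (H := H) (hB j) τ (ρ j) hτ
  let IW : Ideal (integralClosure H K) := I.map (algebraMap A (integralClosure H K))
  let π : integralClosure H K →+* integralClosure H K ⧸ IW := Ideal.Quotient.mk IW
  haveI := connectedSpace_quotient (A := A) (H := H) (K := K) hH.henselian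
  have hpre : ∀ p : PrimeSpectrum (integralClosure H K ⧸ IW), IW ≤ p.asIdeal.comap π := fun p x hx => by
    rw [Ideal.mem_comap, Ideal.Quotient.eq_zero_iff_mem.mpr hx]
    exact zero_mem _
  let U : Set (PrimeSpectrum (integralClosure H K ⧸ IW)) :=
    {p | ∀ (l : ι) (υ : B l →ₐ[A] K), algebraMap A (integralClosure H K) (g l) ∉ p.asIdeal.comap π →
      IsCanon (p.asIdeal.comap π) υ → Rel s σ υ}
  have hkey : ∀ p : PrimeSpectrum (integralClosure H K ⧸ IW), ∃ O : Set (PrimeSpectrum _),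
      IsOpen O ∧ p ∈ O ∧ ∀ p' ∈ O, (p ∈ U ↔ p' ∈ U) := by
    intro p
    obtain ⟨l, hl⟩ := exists_notMem hcov (p.asIdeal.comap π) (hpre p)
    obtain ⟨υ, hυ, -⟩ := exists_canon (p.asIdeal.comap π) (hB l) (hpre p) hl
    obtain ⟨h, hh, hnhd⟩ := exists_nhd (p.asIdeal.comap π) s hB hl hυ
    refine ⟨PrimeSpectrum.basicOpen (π h), (PrimeSpectrum.basicOpen (π h)).isOpen, hh, fun p' hp' => ?_⟩
    obtain ⟨hl', hrel⟩ := hnhd (p'.asIdeal.comap π) hp' (hpre p')
    obtain ⟨υ', hυ', -⟩ := exists_canon (p'.asIdeal.comap π) (hB l) (hpre p') hl'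
    constructor
    · intro hp m χ hm hχ
      exact ((hp l υ hl hυ).trans s (hrel υ' hυ')).trans s
        (rel_of_canon s hB hC a b hs (hpre p') hl' hm hυ' hχ)
    · intro hp m χ hm hχ
      exact ((hp l υ' hl' hυ').trans s (Rel.symm s (hrel υ' hυ'))).trans s
        (rel_of_canon s hB hC a b hs (hpre p) hl hm hυ hχ)
  have hU : IsClopen U := by
    refine ⟨isOpen_compl_iff.mp (isOpen_iff_forall_mem_open.mpr fun p hp => ?_),
      isOpen_iff_forall_mem_open.mpr fun p hp => ?_⟩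
    · obtain ⟨O, hO, hpO, hiff⟩ := hkey p
      exact ⟨O, fun p' hp' hm => hp ((hiff p' hp').mpr hm), hO, hpO⟩
    · obtain ⟨O, hO, hpO, hiff⟩ := hkey p
      exact ⟨O, fun p' hp' => (hiff p' hp').mp hp, hO, hpO⟩
  have hlift : ∀ (v : Ideal (integralClosure H K)) [v.IsPrime], IW ≤ v →
      ∃ p : PrimeSpectrum (integralClosure H K ⧸ IW), p.asIdeal.comap π = v := fun v _ hv => by
    haveI : (v.map π).IsPrime :=
      Ideal.map_isPrime_of_surjective Ideal.Quotient.mk_surjective (by rwa [Ideal.mk_ker])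
    refine ⟨⟨v.map π, inferInstance⟩, ?_⟩
    show (v.map π).comap π = v
    rw [Ideal.comap_map_of_surjective _ Ideal.Quotient.mk_surjective, ← RingHom.ker_eq_comap_bot,
      Ideal.mk_ker, sup_eq_left.mpr hv]
  obtain ⟨p₀, hp₀⟩ := hlift v₀ hI₀
  obtain ⟨p₁, hp₁⟩ := hlift v₁ hI₁
  subst hp₀ hp₁
  have h0 : p₀ ∈ U := fun l υ hl hυ => rel_of_canon s hB hC a b hs hI₀ hi₀ hl hc₀ hυ
  have h1 : p₁ ∈ U := by
    rw [IsClopen.eq_univ hU ⟨p₀, h0⟩]
    exact Set.mem_univ _
  exact h1 j τ hj₁ hc₁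

end Rel

include hcov hH hB hC hs in
theorem exists_ne_zero {K : Type u} [Field K] [IsAlgClosed K] (i j : ι) [Algebra H (B i)]
    [Algebra H (B j)] [IsScalarTower A H (B i)] [IsScalarTower A H (B j)]
    (hi : ∀ x, algebraMap H (B i) x = ρ i x) (hj : ∀ x, algebraMap H (B j) x = ρ j x)
    (κ : B i ⊗[H] B j →+* K) : ∃ e : B i ⊗[A] B j,
      κ (Algebra.TensorProduct.lift
        ((Algebra.TensorProduct.includeLeft : B i →ₐ[H] B i ⊗[H] B j).restrictScalars A)
        ((Algebra.TensorProduct.includeRight : B j →ₐ[H] B i ⊗[H] B j).restrictScalars A)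
        (fun _ _ => Commute.all _ _) e) ≠ 0 ∧ e * diff s i j = 0 := by
  letI : Algebra H K := (κ.comp (algebraMap H (B i ⊗[H] B j))).toAlgebra
  letI : Algebra A K := ((algebraMap H K).comp (algebraMap A H)).toAlgebra
  haveI : IsScalarTower A H K := IsScalarTower.of_algebraMap_eq fun _ => rfl
  let σ : B i →ₐ[A] K :=
    { κ.comp Algebra.TensorProduct.includeLeftRingHom with
      commutes' := fun x => by
        show κ (algebraMap A (B i) x ⊗ₜ[H] (1 : B j)) = algebraMap A K x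
        rw [IsScalarTower.algebraMap_apply A H (B i)]
        rfl }
  let τ : B j →ₐ[A] K :=
    { κ.comp (Algebra.TensorProduct.includeRight : B j →ₐ[H] B i ⊗[H] B j).toRingHom with
      commutes' := fun x => by
        show κ ((1 : B i) ⊗ₜ[H] algebraMap A (B j) x) = algebraMap A K x
        rw [IsScalarTower.algebraMap_apply A H (B j)]
        exact congrArg κ ((Algebra.TensorProduct.includeRight : B j →ₐ[H] B i ⊗[H] B j).commutes _) }
  obtain ⟨e, he, hez⟩ := rel_all s hcov hH hB hC a b hs ρ σ τ (fun x => by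
      show κ (ρ i x ⊗ₜ[H] (1 : B j)) = κ _
      rw [← hi]
      rfl) (fun x => by
      show κ ((1 : B i) ⊗ₜ[H] ρ j x) = κ _
      rw [← hj]
      exact congrArg κ ((Algebra.TensorProduct.includeRight : B j →ₐ[H] B i ⊗[H] B j).commutes _))
  refine ⟨e, fun h => he ?_, hez⟩
  rw [← h]
  clear hez h he
  induction e using TensorProduct.induction_on with
  | zero => simp
  | add x y hx hy => rw [map_add, map_add, map_add, hx, hy]
  | tmul x y =>
    rw [Algebra.TensorProduct.lift_tmul]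
    show κ (x ⊗ₜ[H] (1 : B j)) * κ ((1 : B i) ⊗ₜ[H] y) = _
    rw [← map_mul]
    simp

include hcov hH hB hC hs in
theorem diff_eq_zero (i j : ι) [Algebra H (B i)] [Algebra H (B j)] [IsScalarTower A H (B i)]
    [IsScalarTower A H (B j)] (hi : ∀ x, algebraMap H (B i) x = ρ i x)
    (hj : ∀ x, algebraMap H (B j) x = ρ j x) :
    s i ⊗ₜ[H] (1 : B j) = (1 : B i) ⊗ₜ[H] s j := by
  let q : B i ⊗[A] B j →ₐ[A] B i ⊗[H] B j := Algebra.TensorProduct.lift
    ((Algebra.TensorProduct.includeLeft : B i →ₐ[H] B i ⊗[H] B j).restrictScalars A)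
    ((Algebra.TensorProduct.includeRight : B j →ₐ[H] B i ⊗[H] B j).restrictScalars A)
    fun _ _ => Commute.all _ _
  rw [← sub_eq_zero]
  set z := s i ⊗ₜ[H] (1 : B j) - (1 : B i) ⊗ₜ[H] s j
  have hz : q (diff s i j) = z := by simp [q, diff, z]
  let N : Ideal (B i ⊗[H] B j) := LinearMap.ker (LinearMap.toSpanSingleton (B i ⊗[H] B j) (B i ⊗[H] B j) z)
  have hN : ∀ x, x ∈ N ↔ x * z = 0 := fun x => by simp [N, LinearMap.toSpanSingleton_apply]
  by_contra hne
  obtain ⟨M, hM, hNM⟩ := Ideal.exists_le_maximal N (fun h => hne (by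
    simpa using (hN 1).mp (h ▸ Submodule.mem_top)))
  haveI := hM
  letI := Ideal.Quotient.field M
  obtain ⟨e, he, hez⟩ := exists_ne_zero s hcov hH hB hC a b hs ρ i j hi hj
    ((algebraMap _ (AlgebraicClosure ((B i ⊗[H] B j) ⧸ M))).comp (Ideal.Quotient.mk M))
  apply he
  show algebraMap _ (AlgebraicClosure ((B i ⊗[H] B j) ⧸ M)) (Ideal.Quotient.mk M (q e)) = 0
  rw [Ideal.Quotient.eq_zero_iff_mem.mpr (hNM ((hN _).mpr (by rw [← hz, ← map_mul, hez, map_zero]))),
    map_zero]

include hH hB in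
/-- The residue field at a point of the closed subset lifts to the henselization. -/
theorem exists_point {i : ι} (m : Ideal H) [m.IsMaximal] (hg : algebraMap A H (g i) ∉ m) :
    ∃ ψ : B i →+* H ⧸ m, ψ.comp (ρ i).toRingHom = Ideal.Quotient.mk m := by
  letI := Ideal.Quotient.field m
  have hIm : I.map (algebraMap A H) ≤ m := hH.henselian.jac.trans (sInf_le ⟨bot_le, inferInstance⟩)
  have hle : I.map ((Ideal.Quotient.mk m).comp (algebraMap A H)) ≤ ⊥ := by
    rw [← Ideal.map_map]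
    exact (Ideal.map_mono hIm).trans (Ideal.map_quotient_self m).le
  obtain ⟨ψ, hψ, -⟩ := (hB i).universal (H ⧸ m) ⊥ ((Ideal.Quotient.mk m).comp (algebraMap A H))
    Groth.L05.henselianRing_bot (isUnit_iff_ne_zero.mpr fun h => hg (Ideal.Quotient.eq_zero_iff_mem.mp h)) hle
  refine ⟨ψ, (hH.universal (H ⧸ m) ⊥ ((Ideal.Quotient.mk m).comp (algebraMap A H))
    Groth.L05.henselianRing_bot (by simp) hle).unique ?_ rfl⟩
  rw [RingHom.comp_assoc, show (ρ i).toRingHom.comp (algebraMap A H) = algebraMap A (B i) from (ρ i).comp_algebraMap,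
    hψ]

include hH in
theorem exists_mem_finset {J : Finset ι} (hJ : (1 : A) ∈ I ⊔ Ideal.span (g '' J)) (m : Ideal H)
    [m.IsMaximal] : ∃ j ∈ J, algebraMap A H (g j) ∉ m := by
  by_contra! h
  have hIm : I.map (algebraMap A H) ≤ m := hH.henselian.jac.trans (sInf_le ⟨bot_le, inferInstance⟩)
  have h1 : I ⊔ Ideal.span (g '' J) ≤ m.comap (algebraMap A H) :=
    sup_le (Ideal.map_le_iff_le_comap.mp hIm) (Ideal.span_le.mpr (by rintro _ ⟨j, hj, rfl⟩; exact h j hj))
  have h2 := h1 hJ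
  rw [Ideal.mem_comap, map_one] at h2
  exact ‹m.IsMaximal›.ne_top ((Ideal.eq_top_iff_one m).mpr h2)

include hH hB in
theorem flat_rho (i : ι) : (ρ i).toRingHom.Flat := by
  letI := (ρ i).toRingHom.toAlgebra
  haveI : IsScalarTower A H (B i) := IsScalarTower.of_algebraMap_eq fun x => ((ρ i).commutes x).symm
  haveI := hH.weaklyEtale
  haveI : Module.Flat A (B i) := (hB i).weaklyEtale.flat
  exact Groth.L20.flat_of_flat_of_flat_lmul (R := A) (T := H) (M := B i)
    (Algebra.WeaklyEtale.flat_lmul' A H)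

include hH hB in
theorem injective_finset {J : Finset ι} (hJ : (1 : A) ∈ I ⊔ Ideal.span (g '' J)) {x y : H}
    (h : ∀ j ∈ J, ρ j x = ρ j y) : x = y := by
  rw [← sub_eq_zero]
  set d := x - y
  let N : Ideal H := LinearMap.ker (LinearMap.toSpanSingleton H H d)
  suffices hN : (1 : H) ∈ N by simpa [N, LinearMap.toSpanSingleton_apply] using hN
  rw [← Ideal.eq_top_iff_one]
  by_contra hne
  obtain ⟨m, hm, hNm⟩ := Ideal.exists_le_maximal N hne
  haveI := hm
  obtain ⟨j, hj, hgj⟩ := exists_mem_finset hH hJ m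
  obtain ⟨ψ, hψ⟩ := exists_point hH hB ρ m hgj
  obtain ⟨k, c, y', hc, h1⟩ := mem_map_annihilator (ρ j).toRingHom (flat_rho hH hB ρ j) (x := (1 : B j))
    (z := d) (by
      show 1 * ρ j (x - y) = 0
      rw [one_mul, map_sub, h j hj, sub_self])
  have h2 := congrArg ψ h1
  rw [map_one, map_sum] at h2
  refine one_ne_zero (α := H ⧸ m) (h2.trans (Finset.sum_eq_zero fun l _ => ?_))
  rw [map_mul, ← RingHom.comp_apply ψ, hψ, Ideal.Quotient.eq_zero_iff_mem.mpr (hNm (by
    simp [N, LinearMap.toSpanSingleton_apply, hc l])), zero_mul]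

include hcov hH hB hC hs in
theorem exists_glue_finset {J : Finset ι} (hJ : (1 : A) ∈ I ⊔ Ideal.span (g '' J)) :
    ∃ x : H, ∀ j ∈ J, ρ j x = s j := by
  classical
  letI : ∀ i, Algebra H (B i) := fun i => (ρ i).toRingHom.toAlgebra
  haveI : ∀ i, IsScalarTower A H (B i) := fun i =>
    IsScalarTower.of_algebraMap_eq fun x => ((ρ i).commutes x).symm
  let Δ : H →ₗ[H] ((i : J) → B i) := LinearMap.pi fun i => Algebra.linearMap H (B i)
  let q : H →ₗ[H] ((i : J) → B i) ⧸ LinearMap.range Δ :=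
    (LinearMap.range Δ).mkQ ∘ₗ LinearMap.toSpanSingleton H _ (fun i : J => s i)
  suffices hq : (1 : H) ∈ LinearMap.ker q by
    rw [LinearMap.mem_ker] at hq
    have h1 : (fun i : J => s i) ∈ LinearMap.range Δ := by
      simpa [q, LinearMap.toSpanSingleton_apply, Submodule.Quotient.mk_eq_zero] using hq
    obtain ⟨x, hx⟩ := h1
    exact ⟨x, fun j hj => congrFun hx ⟨j, hj⟩⟩
  rw [← Ideal.eq_top_iff_one]
  by_contra hne
  obtain ⟨m, hm, hNm⟩ := Ideal.exists_le_maximal (LinearMap.ker q) hne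
  haveI := hm
  obtain ⟨j, hj, hgj⟩ := exists_mem_finset hH hJ m
  obtain ⟨ψ, hψ⟩ := exists_point hH hB ρ m hgj
  haveI : Module.Flat H (B j) := flat_rho hH hB ρ j
  have hz : LinearMap.lTensor (B j) q ((1 : B j) ⊗ₜ[H] (1 : H)) = 0 := by
    have h1 : (1 : B j) ⊗ₜ[H] (fun i : J => s i) = LinearMap.lTensor (B j) Δ (s j ⊗ₜ[H] (1 : H)) := by
      apply (TensorProduct.piRight H H (B j) fun i : J => B i).injective
      funext i
      simp only [LinearMap.lTensor_tmul, TensorProduct.piRight_apply, TensorProduct.piRightHom_tmul]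
      rw [show Δ 1 i = 1 from map_one (algebraMap H (B i.1))]
      exact (diff_eq_zero s hcov hH hB hC a b hs ρ j i.1 (fun _ => rfl) (fun _ => rfl)).symm
    simp only [q, LinearMap.lTensor_comp, LinearMap.comp_apply, LinearMap.lTensor_tmul,
      LinearMap.toSpanSingleton_apply, one_smul]
    rw [← LinearMap.lTensor_tmul, h1, ← LinearMap.comp_apply, ← LinearMap.lTensor_comp,
      LinearMap.range_mkQ_comp, LinearMap.lTensor_zero, LinearMap.zero_apply]
  obtain ⟨t, ht⟩ := (Module.Flat.lTensor_exact (B j) (LinearMap.exact_subtype_ker_map q) _).mp hz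
  let Nq : Ideal H := LinearMap.ker q
  have hmem : ∀ t, TensorProduct.rid H (B j) (LinearMap.lTensor (B j) (LinearMap.ker q).subtype t) ∈
      Nq.map (algebraMap H (B j)) := fun t => by
    induction t using TensorProduct.induction_on with
    | zero => simp
    | add x y hx hy => rw [map_add, map_add]; exact add_mem hx hy
    | tmul x y =>
      rw [LinearMap.lTensor_tmul, TensorProduct.rid_tmul, Algebra.smul_def]
      exact Ideal.mul_mem_right _ _ (Ideal.mem_map_of_mem _ y.2)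
  have h1 := Ideal.mem_map_of_mem ψ (hmem t)
  rw [ht, TensorProduct.rid_tmul, one_smul, map_one, Ideal.map_map] at h1
  have h2 : Nq.map (ψ.comp (algebraMap H (B j))) ≤ ⊥ := by
    rw [show ψ.comp (algebraMap H (B j)) = Ideal.Quotient.mk m from hψ]
    exact (Ideal.map_mono hNm).trans (Ideal.map_quotient_self m).le
  exact one_ne_zero ((Ideal.mem_bot (R := H ⧸ m)).mp (h2 h1))

include hcov in
theorem exists_cover : ∃ J : Finset ι, (1 : A) ∈ I ⊔ Ideal.span (g '' J) := by
  classical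
  have h1 : (1 : A) ∈ I ⊔ Ideal.span (Set.range g) := hcov ▸ Submodule.mem_top
  obtain ⟨u, hu, v, hv, huv⟩ := Submodule.mem_sup.mp h1
  obtain ⟨T, hTsub, hvT⟩ := Submodule.mem_span_finite_of_mem_span hv
  obtain ⟨J, -, hJ⟩ := Finset.subset_set_image_iff.mp
    (show (T : Set A) ⊆ g '' Set.univ by simpa using hTsub)
  refine ⟨J, huv ▸ Submodule.add_mem_sup hu ?_⟩
  rw [← hJ, Finset.coe_image] at hvT
  exact hvT

include hcov hH hB hC hs in
theorem exists_glue : ∃ x : H, ∀ i, ρ i x = s i := by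
  classical
  obtain ⟨J, hJ⟩ := exists_cover hcov
  obtain ⟨x, hx⟩ := exists_glue_finset s hcov hH hB hC a b hs ρ hJ
  refine ⟨x, fun i => ?_⟩
  obtain ⟨x', hx'⟩ := exists_glue_finset s hcov hH hB hC a b hs ρ (J := insert i J)
    ((sup_le_sup_left (Ideal.span_mono (Set.image_mono (Finset.coe_subset.mpr (Finset.subset_insert i J)))) I) hJ)
  rw [injective_finset hH hB ρ hJ (x := x) (y := x') fun j hj =>
    (hx j hj).trans (hx' j (Finset.mem_insert_of_mem hj)).symm]
  exact hx' i (Finset.mem_insert_self i J)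

end Groth.L05.HensSheaf
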