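import Groth.Agent.L05.HensSheaf.Rel
import Groth.Agent.L05.Hensel.Criteria
import Groth.Agent.L05.Hensel.Perm
import Mathlib.FieldTheory.IsAlgClosed.Basic
import Mathlib.RingTheory.IntegralClosure.IsIntegralClosure.Basic
import Mathlib.RingTheory.Localization.Integral
import Mathlib.RingTheory.Localization.AtPrime.Basic
import Mathlib.RingTheory.Henselian
import Mathlib.RingTheory.Spectrum.Prime.Topology

/-!
# All geometric points over one point of the henselian base are related
-/

universe u

open TensorProduct IsLocalRing Polynomial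

namespace Groth.L05.HensSheaf

set_option linter.style.haveILetI false

/-- A local domain which is integrally closed in an algebraically closed field is henselian. -/
theorem henselianLocalRing_of_closed {O K : Type u} [CommRing O] [IsLocalRing O] [Field K] [IsAlgClosed K]
    (f : O →+* K) (hf : Function.Injective f)
    (hcl : ∀ (p : O[X]) (r : K), p.Monic → p.eval₂ f r = 0 → ∃ x, f x = r) : HenselianLocalRing O := by
  constructor
  intro p hp a₀ h1 h2
  have hsplit : (p.map f).Splits := IsAlgClosed.splits _
  have hroot : ∀ r ∈ (p.map f).roots, ∃ x, f x = r := fun r hr =>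
    hcl p r hp (by
      rw [← eval_map]
      exact (mem_roots'.mp hr).2)
  choose! g hg using hroot
  have hprod : p = (((p.map f).roots.map g).map fun x => X - C x).prod := by
    apply Polynomial.map_injective f hf
    rw [hsplit.eq_prod_roots, (hp.map f).leadingCoeff, C_1, one_mul,
      Polynomial.map_multiset_prod, Multiset.map_map, Multiset.map_map]
    rw [roots_multiset_prod_X_sub_C]
    refine congrArg Multiset.prod (Multiset.map_congr rfl fun r hr => ?_)
    simp [hg r hr]
  rw [hprod, eval_multiset_prod, Multiset.map_map] at h1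
  obtain ⟨y, hy, hy'⟩ := ((maximalIdeal.isMaximal O).isPrime.multiset_prod_mem_iff_exists_mem _).mp h1
  obtain ⟨x, hx, rfl⟩ := Multiset.mem_map.mp hy
  refine ⟨x, ?_, ?_⟩
  · rw [IsRoot.def, hprod, eval_multiset_prod, Multiset.map_map]
    exact Multiset.prod_eq_zero (Multiset.mem_map.mpr ⟨x, hx, by simp⟩)
  · simp only [Function.comp_apply, eval_sub, eval_X, eval_C] at hy'
    simpa using neg_mem hy'

variable {A H K : Type u} [CommRing A] [CommRing H] [Algebra A H] [Field K] [IsAlgClosed K]
  [Algebra H K] [Algebra A K] [IsScalarTower A H K] (I : Ideal A)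
  {ι : Type u} {g : ι → A} {B : ι → Type u} [∀ i, CommRing (B i)] [∀ i, Algebra A (B i)]

variable (w : Ideal (integralClosure H K)) [w.IsPrime]

/-- The map of the local ring of the absolute integral closure at `w` into `K`. -/
noncomputable def toK : Localization.AtPrime w →+* K :=
  IsLocalization.lift (M := w.primeCompl) (g := (integralClosure H K).val.toRingHom) fun s =>
    isUnit_iff_ne_zero.mpr fun h => s.2 (by
      rw [show (s : (integralClosure H K)) = 0 from Subtype.ext h]
      exact zero_mem _)

theorem toK_algebraMap (x : (integralClosure H K)) : toK w (algebraMap (integralClosure H K) (Localization.AtPrime w) x) = (x : K) :=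
  IsLocalization.lift_eq _ _

theorem toK_mk' (x : (integralClosure H K)) (s : w.primeCompl) :
    toK w (IsLocalization.mk' (Localization.AtPrime w) x s) * ((s : (integralClosure H K)) : K) = (x : K) := by
  rw [← toK_algebraMap w (s : (integralClosure H K)), ← map_mul, IsLocalization.mk'_spec, toK_algebraMap]

theorem toK_injective : Function.Injective (toK w) := by
  rw [injective_iff_map_eq_zero]
  intro z hz
  obtain ⟨x, s, rfl⟩ := IsLocalization.exists_mk'_eq w.primeCompl z
  have := toK_mk' w x s
  rw [hz, zero_mul] at this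
  rw [show x = 0 from Subtype.ext this.symm, IsLocalization.mk'_zero]

theorem toK_algebraMap_base (a : A) :
    toK w (algebraMap A (Localization.AtPrime w) a) = algebraMap A K a := by
  rw [IsScalarTower.algebraMap_apply A (integralClosure H K) (Localization.AtPrime w), toK_algebraMap]
  rfl

theorem henselianLocalRing_atPrime : HenselianLocalRing (Localization.AtPrime w) := by
  refine henselianLocalRing_of_closed (toK w) (toK_injective w) fun p r hp hr => ?_
  letI : Algebra (Localization.AtPrime w) K := (toK w).toAlgebra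
  haveI : IsScalarTower (integralClosure H K) (Localization.AtPrime w) K :=
    IsScalarTower.of_algebraMap_eq fun x => (toK_algebraMap w x).symm
  obtain ⟨m, hm⟩ := IsIntegral.exists_multiple_integral_of_isLocalization w.primeCompl
    (Rₘ := Localization.AtPrime w) r ⟨p, hp, hr⟩
  have hmem : IsIntegral H (((m : (integralClosure H K)) : K) * r) := isIntegral_trans _ hm
  refine ⟨IsLocalization.mk' _ (⟨_, hmem⟩ : (integralClosure H K)) m, ?_⟩
  have := toK_mk' w (⟨_, hmem⟩ : (integralClosure H K)) m
  refine mul_right_cancel₀ (b := ((m : (integralClosure H K)) : K)) (fun h0 => m.2 ?_) (this.trans (mul_comm _ _))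
  rw [show (m : (integralClosure H K)) = 0 from Subtype.ext h0]
  exact zero_mem _

/-- `σ` factors through the local ring at `w`. -/
def IsCanon {i : ι} (σ : B i →ₐ[A] K) : Prop :=
  ∃ τ : B i →+* Localization.AtPrime w, (toK w).comp τ = σ.toRingHom

variable {I}

theorem map_le_maximalIdeal (hI : I.map (algebraMap A (integralClosure H K)) ≤ w) :
    I.map (algebraMap A (Localization.AtPrime w)) ≤ maximalIdeal (Localization.AtPrime w) := by
  rw [IsScalarTower.algebraMap_eq A (integralClosure H K) (Localization.AtPrime w), ← Ideal.map_map,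
    ← Localization.AtPrime.map_eq_maximalIdeal]
  exact Ideal.map_mono hI

theorem isUnit_atPrime {a : A} (ha : algebraMap A (integralClosure H K) a ∉ w) :
    IsUnit (algebraMap A (Localization.AtPrime w) a) := by
  rw [IsScalarTower.algebraMap_apply A (integralClosure H K) (Localization.AtPrime w)]
  exact IsLocalization.map_units (Localization.AtPrime w) (⟨_, ha⟩ : w.primeCompl)

theorem exists_canon {i : ι} (hB : IsAwayHens I (g i) (B i)) (hI : I.map (algebraMap A (integralClosure H K)) ≤ w)
    (hg : algebraMap A (integralClosure H K) (g i) ∉ w) :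
    ∃ σ : B i →ₐ[A] K, IsCanon w σ ∧ ∀ σ' : B i →ₐ[A] K, IsCanon w σ' → σ' = σ := by
  haveI := henselianLocalRing_atPrime w
  obtain ⟨τ, hτ, hu⟩ := hB.universal _ (maximalIdeal (Localization.AtPrime w))
    (algebraMap A (Localization.AtPrime w)) inferInstance (isUnit_atPrime w hg) (map_le_maximalIdeal w hI)
  refine ⟨{ (toK w).comp τ with
    commutes' := fun a => by
      show toK w (τ (algebraMap A (B i) a)) = _
      rw [← RingHom.comp_apply τ, hτ, toK_algebraMap_base] }, ⟨τ, rfl⟩, fun σ' hσ' => ?_⟩
  obtain ⟨τ', hτ'⟩ := hσ'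
  have : τ' = τ := hu τ' (RingHom.ext fun a => toK_injective w (by
    show toK w (τ' (algebraMap A (B i) a)) = _
    rw [toK_algebraMap_base, ← RingHom.comp_apply (toK w) τ', hτ']
    exact σ'.commutes a))
  subst this
  exact AlgHom.ext fun b => (DFunLike.congr_fun hτ' b).symm

theorem connectedSpace_quotient [Algebra.WeaklyEtale A H] (hH : HenselianRing H (I.map (algebraMap A H))) :
    PreconnectedSpace (PrimeSpectrum ((integralClosure H K) ⧸ I.map (algebraMap A (integralClosure H K)))) := by
  have hmap : (I.map (algebraMap A H)).map (algebraMap H (integralClosure H K)) = I.map (algebraMap A (integralClosure H K)) := by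
    rw [Ideal.map_map, ← IsScalarTower.algebraMap_eq]
  haveI := hH
  have hbij := Groth.L05.idem_bijOn (I.map (algebraMap A H)) (integralClosure H K)
  rw [hmap] at hbij
  have hidem : ∀ e : (integralClosure H K) ⧸ I.map (algebraMap A (integralClosure H K)), IsIdempotentElem e → e = 0 ∨ e = 1 := fun e he => by
    obtain ⟨x, hx, rfl⟩ := hbij.surjOn he
    rcases IsIdempotentElem.iff_eq_zero_or_one.mp hx with h | h
    · exact Or.inl (by rw [h, map_zero])
    · exact Or.inr (by rw [h, map_one])
  rw [preconnectedSpace_iff_clopen]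
  intro U hU
  obtain ⟨e, f, hef, hsum, rfl⟩ := PrimeSpectrum.isClopen_iff_mul_add.mp hU
  have he : IsIdempotentElem e := by
    show e * e = e
    calc e * e = e * (e + f) := by rw [mul_add, hef, add_zero]
      _ = e := by rw [hsum, mul_one]
  rcases hidem e he with rfl | rfl
  · exact Or.inl (by simp)
  · exact Or.inr (by simp)

theorem exists_sum {i : ι} {b : B i} (hb : b ∈ I.map (algebraMap A (B i))) :
    ∃ (l : ℕ) (c : Fin l → I) (d : Fin l → B i), b = ∑ m, algebraMap A (B i) (c m).1 * d m := by
  obtain ⟨l, d, v, hv⟩ := Submodule.mem_span_set'.mp hb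
  choose c hc hcv using fun m => (v m).2
  refine ⟨l, fun m => ⟨c m, hc m⟩, d, ?_⟩
  rw [← hv]
  refine Finset.sum_congr rfl fun m _ => ?_
  rw [smul_eq_mul, hcv, mul_comm]

variable (s : ∀ i, B i) (hB : ∀ i, IsAwayHens I (g i) (B i))

theorem exists_denominator (x : Localization.AtPrime w) :
    ∃ h : (integralClosure H K), h ∉ w ∧ ∀ (w' : Ideal (integralClosure H K)) [w'.IsPrime], h ∉ w' → ∃ y : Localization.AtPrime w', toK w' y = toK w x := by
  obtain ⟨a, t, rfl⟩ := IsLocalization.exists_mk'_eq w.primeCompl x
  refine ⟨t, t.2, fun w' _ ht => ⟨IsLocalization.mk' _ a (⟨t, ht⟩ : w'.primeCompl), ?_⟩⟩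
  refine mul_right_cancel₀ (b := ((t : (integralClosure H K)) : K)) (fun h0 => t.2 ?_)
    ((toK_mk' w' a ⟨t, ht⟩).trans (toK_mk' w a t).symm)
  rw [show (t : (integralClosure H K)) = 0 from Subtype.ext h0]
  exact zero_mem _

theorem exists_denominators {κ : Type*} [Finite κ] (x : κ → Localization.AtPrime w) :
    ∃ h : (integralClosure H K), h ∉ w ∧ ∀ (w' : Ideal (integralClosure H K)) [w'.IsPrime], h ∉ w' →
      ∀ m, ∃ y : Localization.AtPrime w', toK w' y = toK w (x m) := by
  classical
  haveI := Fintype.ofFinite κ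
  choose h hh hy using fun m => exists_denominator w (x m)
  refine ⟨∏ m, h m, fun hmem => ?_, fun w' _ hw' m => hy m w' fun hmem => hw' ?_⟩
  · obtain ⟨m, -, hm⟩ := (Ideal.IsPrime.prod_mem_iff (s := Finset.univ)).mp hmem
    exact hh m hm
  · exact Ideal.mem_of_dvd _ (Finset.dvd_prod_of_mem h (Finset.mem_univ m)) hmem

include hB in
/-- The canonical points at nearby primes are related. -/
theorem exists_nhd {i : ι} {σ : B i →ₐ[A] K} (hg : algebraMap A (integralClosure H K) (g i) ∉ w) (hσ : IsCanon w σ) :
    ∃ h : (integralClosure H K), h ∉ w ∧ ∀ (w' : Ideal (integralClosure H K)) [w'.IsPrime], h ∉ w' → I.map (algebraMap A (integralClosure H K)) ≤ w' →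
      algebraMap A (integralClosure H K) (g i) ∉ w' ∧ ∀ σ' : B i →ₐ[A] K, IsCanon w' σ' → Rel s σ σ' := by
  classical
  haveI := (hB i).weaklyEtale
  obtain ⟨e, he1, he0⟩ := exists_diag (A := A) s i
  obtain ⟨S, hS⟩ := TensorProduct.exists_finset e
  obtain ⟨τ, hτ⟩ := hσ
  choose n α hα using fun p : S => (hB i).approx p.1.1
  choose l c d hd using fun p : S => exists_sum (hα p)
  let X : (S ⊕ Σ p : S, Fin (l p)) → Localization.AtPrime w :=
    Sum.elim (fun p => τ p.1.1) (fun q => τ (d q.1 q.2))
  obtain ⟨h, hh, hy⟩ := exists_denominators w X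
  refine ⟨h * algebraMap A (integralClosure H K) (g i), fun hm => ((‹w.IsPrime›.mem_or_mem hm).elim hh hg),
    fun w' _ hw' hI' => ?_⟩
  have hh' : h ∉ w' := fun hm => hw' (Ideal.mul_mem_right _ _ hm)
  have hg' : algebraMap A (integralClosure H K) (g i) ∉ w' := fun hm => hw' (Ideal.mul_mem_left _ _ hm)
  refine ⟨hg', fun σ' ⟨τ', hτ'⟩ => ⟨e, ?_, he0⟩⟩
  have hσeq : ∀ b, toK w (τ b) = σ b := fun b => DFunLike.congr_fun hτ b
  have hσeq' : ∀ b, toK w' (τ' b) = σ' b := fun b => DFunLike.congr_fun hτ' b
  choose y hy' using fun p : S => hy w' hh' (Sum.inl p)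
  choose z hz' using fun q : Σ p : S, Fin (l p) => hy w' hh' (Sum.inr q)
  have hy1 : ∀ p : S, toK w' (y p) = σ p.1.1 := fun p => (hy' p).trans (hσeq _)
  let O := Localization.AtPrime w'
  have hτA : ∀ a, τ' (algebraMap A (B i) a) = algebraMap A O a := fun a => toK_injective w' (by
    rw [hσeq', σ'.commutes, toK_algebraMap_base])
  have hIO := map_le_maximalIdeal (A := A) (I := I) w' hI'
  have hres : ∀ p : S, residue O (y p) = residue O (τ' p.1.1) := fun p => by
    have hu := isUnit_atPrime (A := A) w' hg'
    have h1 : algebraMap A O (g i) ^ n p * y p - algebraMap A O (α p) ∈ maximalIdeal O := by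
      have heq : algebraMap A O (g i) ^ n p * y p - algebraMap A O (α p) =
          ∑ m, algebraMap A O (c p m).1 * z ⟨p, m⟩ := toK_injective w' (by
        rw [map_sub, map_mul, map_pow, map_sum, toK_algebraMap_base, toK_algebraMap_base, hy1]
        have := congrArg σ (hd p)
        rw [map_sub, map_mul, map_pow, σ.commutes, σ.commutes, map_sum] at this
        rw [this]
        refine Finset.sum_congr rfl fun m _ => ?_
        rw [map_mul, map_mul, σ.commutes, toK_algebraMap_base, hz']
        exact congrArg _ (hσeq _).symm)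
      rw [heq]
      exact sum_mem fun m _ => Ideal.mul_mem_right _ _ (hIO (Ideal.mem_map_of_mem _ (c p m).2))
    have h2 : algebraMap A O (g i) ^ n p * τ' p.1.1 - algebraMap A O (α p) ∈ maximalIdeal O := by
      have := congrArg τ' (hd p)
      rw [map_sub, map_mul, map_pow, hτA, hτA, map_sum] at this
      rw [this]
      refine sum_mem fun m _ => ?_
      rw [map_mul, hτA]
      exact Ideal.mul_mem_right _ _ (hIO (Ideal.mem_map_of_mem _ (c p m).2))
    have h3 := sub_mem h1 h2
    rw [sub_sub_sub_cancel_right, ← mul_sub] at h3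
    rw [← sub_eq_zero, ← map_sub, residue_eq_zero_iff]
    exact (Ideal.unit_mul_mem_iff_mem _ (hu.pow _)).mp h3
  let E : O := ∑ p : S, y p * τ' p.1.2
  have hE : Algebra.TensorProduct.lift σ σ' (fun _ _ => Commute.all _ _) e = toK w' E := by
    rw [hS, map_sum, map_sum, ← Finset.sum_coe_sort S]
    refine Finset.sum_congr rfl fun p _ => ?_
    rw [Algebra.TensorProduct.lift_tmul, map_mul, hy1, hσeq']
  have hEu : IsUnit E := by
    have h1 : τ' (∑ p : S, p.1.1 * p.1.2) = 1 := by
      have : (∑ p : S, p.1.1 * p.1.2) = 1 := by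
        rw [← he1, hS, map_sum, ← Finset.sum_coe_sort S]
        simp
      rw [this, map_one]
    rw [← residue_ne_zero_iff_isUnit, show residue O E = 1 by
      rw [← map_one (residue O), ← h1, map_sum, map_sum, map_sum]
      exact Finset.sum_congr rfl fun p _ => by rw [map_mul τ', map_mul, map_mul, hres p]]
    exact one_ne_zero
  rw [hE]
  exact (hEu.map (toK w')).ne_zero
include hB in
theorem flat_all (i : ι) : Module.Flat A (B i) := (hB i).weaklyEtale.flat

/-- An arbitrary point is canonical at some prime. -/
theorem exists_prime_canon [Algebra.WeaklyEtale A H]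
    {i : ι} (hBi : IsAwayHens I (g i) (B i)) (σ : B i →ₐ[A] K) (ρ : H →ₐ[A] B i)
    (hσ : ∀ x, σ (ρ x) = algebraMap H K x) :
    ∃ (v : Ideal (integralClosure H K)) (_ : v.IsPrime), I.map (algebraMap A (integralClosure H K)) ≤ v ∧ algebraMap A (integralClosure H K) (g i) ∉ v ∧
      IsCanon v σ := by
  classical
  letI : Algebra (B i) K := σ.toRingHom.toAlgebra
  haveI : IsScalarTower A (B i) K := IsScalarTower.of_algebraMap_eq fun a => (σ.commutes a).symm
  letI : Algebra H (B i) := ρ.toRingHom.toAlgebra
  haveI : IsScalarTower H (B i) K := IsScalarTower.of_algebraMap_eq fun x => (hσ x).symm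
  obtain ⟨M, hM⟩ := Ideal.exists_maximal (integralClosure (B i) K)
  haveI := hM
  have hIM : I.map (algebraMap A (integralClosure (B i) K)) ≤ M := by
    rw [IsScalarTower.algebraMap_eq A (B i) (integralClosure (B i) K), ← Ideal.map_map,
      Ideal.map_le_iff_le_comap]
    haveI := Ideal.isMaximal_comap_of_isIntegral_of_isMaximal (R := B i) M
    exact hBi.henselian.jac.trans (sInf_le ⟨bot_le, inferInstance⟩)
  let j : (integralClosure H K) →+* integralClosure (B i) K :=
    (integralClosure H K).val.toRingHom.codRestrict _ fun x => x.2.tower_top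
  have hjA : ∀ a, j (algebraMap A (integralClosure H K) a) = algebraMap A _ a := fun a => Subtype.ext rfl
  haveI : (M.comap j).IsPrime := Ideal.IsPrime.comap _
  have hI : I.map (algebraMap A (integralClosure H K)) ≤ M.comap j := by
    refine Ideal.map_le_iff_le_comap.mpr fun a ha => ?_
    rw [Ideal.mem_comap, Ideal.mem_comap, hjA]
    exact hIM (Ideal.mem_map_of_mem _ ha)
  have hgM : algebraMap A (integralClosure (B i) K) (g i) ∉ M := fun h => hM.ne_top
    (Ideal.eq_top_of_isUnit_mem _ h (by
      rw [IsScalarTower.algebraMap_apply A (B i) (integralClosure (B i) K)]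
      exact hBi.isUnit.map _))
  have hg : algebraMap A (integralClosure H K) (g i) ∉ M.comap j := by
    rw [Ideal.mem_comap, hjA]
    exact hgM
  obtain ⟨σ₀, ⟨τ₀, hτ₀⟩, -⟩ := exists_canon (A := A) (M.comap j) hBi hI hg
  refine ⟨M.comap j, inferInstance, hI, hg, ?_⟩
  let jl : Localization.AtPrime (M.comap j) →+* Localization.AtPrime M :=
    Localization.localRingHom (M.comap j) M j rfl
  have hjl : (toK M).comp jl = toK (M.comap j) := IsLocalization.ringHom_ext (M.comap j).primeCompl (by
    refine RingHom.ext fun x => ?_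
    show toK M (jl (algebraMap (integralClosure H K) _ x)) = toK (M.comap j) (algebraMap (integralClosure H K) _ x)
    rw [Localization.localRingHom_to_map, toK_algebraMap, toK_algebraMap]
    rfl)
  obtain ⟨τ₁, -, huniq⟩ := exists_canon (A := A) (H := B i) (K := K) M hBi hIM hgM
  have h₁ : σ = τ₁ := huniq σ ⟨(algebraMap (integralClosure (B i) K) (Localization.AtPrime M)).comp
    (algebraMap (B i) (integralClosure (B i) K)), RingHom.ext fun b => by
      show toK M (algebraMap (integralClosure (B i) K) (Localization.AtPrime M)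
        (algebraMap (B i) (integralClosure (B i) K) b)) = _
      rw [toK_algebraMap]
      rfl⟩
  have h₂ : σ₀ = τ₁ := huniq σ₀ ⟨jl.comp τ₀, by rw [← RingHom.comp_assoc, hjl, hτ₀]⟩
  exact ⟨τ₀, by rw [hτ₀, h₁, h₂]⟩

end Groth.L05.HensSheaf
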