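import Groth.Agent.L05.HensSheaf.Away
import Mathlib.RingTheory.Flat.EquationalCriterion
import Mathlib.RingTheory.RingHom.Flat

/-!
# The relation "the two sections agree at this geometric point"
-/

universe u

open TensorProduct

namespace Groth.L05.HensSheaf

set_option linter.style.haveILetI false

theorem mem_map_annihilator {T T' : Type u} [CommRing T] [CommRing T'] (f : T →+* T') (hf : f.Flat)
    {z : T} {x : T'} (h : x * f z = 0) :
    ∃ (k : ℕ) (a : Fin k → T) (y : Fin k → T'), (∀ j, a j * z = 0) ∧ x = ∑ j, f (a j) * y j := by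
  algebraize [f]
  haveI : Module.Flat T T' := hf
  have hrel : ∑ _i : Fin 1, z • x = 0 := by
    simp only [Finset.univ_unique, Finset.sum_singleton]
    rw [Algebra.smul_def, mul_comm]
    exact h
  obtain ⟨k, a, y, hy, ha⟩ := Module.Flat.isTrivialRelation_of_sum_smul_eq_zero
    (f := fun _ : Fin 1 => z) (x := fun _ : Fin 1 => x) hrel
  refine ⟨k, a 0, y, fun j => ?_, ?_⟩
  · simpa [mul_comm] using ha j
  · simpa [Algebra.smul_def, RingHom.algebraMap_toAlgebra] using hy 0

variable {A : Type u} [CommRing A] {K : Type u} [Field K] [Algebra A K]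
  {ι : Type u} {B : ι → Type u} [∀ i, CommRing (B i)] [∀ i, Algebra A (B i)] (s : ∀ i, B i)

/-- The difference of two sections. -/
noncomputable def diff (i j : ι) : B i ⊗[A] B j := s i ⊗ₜ[A] (1 : B j) - (1 : B i) ⊗ₜ[A] s j

/-- The two sections agree near the geometric point `(σ, τ)`. -/
def Rel {i j : ι} (σ : B i →ₐ[A] K) (τ : B j →ₐ[A] K) : Prop :=
  ∃ e : B i ⊗[A] B j, Algebra.TensorProduct.lift σ τ (fun _ _ => Commute.all _ _) e ≠ 0 ∧
    e * diff s i j = 0

theorem Rel.symm {i j : ι} {σ : B i →ₐ[A] K} {τ : B j →ₐ[A] K} (h : Rel s σ τ) : Rel s τ σ := by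
  obtain ⟨e, he, hz⟩ := h
  refine ⟨Algebra.TensorProduct.comm A (B i) (B j) e, ?_, ?_⟩
  · have : (Algebra.TensorProduct.lift τ σ fun _ _ => Commute.all _ _).comp
        (Algebra.TensorProduct.comm A (B i) (B j)).toAlgHom =
        Algebra.TensorProduct.lift σ τ fun _ _ => Commute.all _ _ :=
      Algebra.TensorProduct.ext' fun a b => by simp [mul_comm]
    rwa [← this] at he
  · have h1 : Algebra.TensorProduct.comm A (B i) (B j) (diff s i j) = -diff s j i := by
      simp [diff]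
    have := congrArg (Algebra.TensorProduct.comm A (B i) (B j)) hz
    rwa [map_mul, h1, map_zero, mul_neg, neg_eq_zero] at this

theorem Rel.trans [∀ i, Module.Flat A (B i)] {i j l : ι} {σ : B i →ₐ[A] K} {τ : B j →ₐ[A] K}
    {υ : B l →ₐ[A] K} (h₁ : Rel s σ τ) (h₂ : Rel s τ υ) : Rel s σ υ := by
  obtain ⟨e₁, he₁, hz₁⟩ := h₁
  obtain ⟨e₂, he₂, hz₂⟩ := h₂
  let ι₁ : B i ⊗[A] B j →ₐ[A] B i ⊗[A] (B j ⊗[A] B l) :=
    Algebra.TensorProduct.map (AlgHom.id A (B i)) Algebra.TensorProduct.includeLeft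
  let ι₂ : B j ⊗[A] B l →ₐ[A] B i ⊗[A] (B j ⊗[A] B l) := Algebra.TensorProduct.includeRight
  let ι₃ : B i ⊗[A] B l →ₐ[A] B i ⊗[A] (B j ⊗[A] B l) :=
    Algebra.TensorProduct.map (AlgHom.id A (B i)) Algebra.TensorProduct.includeRight
  have hflat : ι₃.toRingHom.Flat := by
    refine RingHom.Flat.tensorProductMap (S := A) (R := A) (RingHom.Flat.id _) ?_
    have h0 : (Algebra.TensorProduct.includeRight : B l →ₐ[A] B j ⊗[A] B l).toRingHom =
        (Algebra.TensorProduct.comm A (B l) (B j)).toAlgHom.toRingHom.comp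
          (algebraMap (B l) (B l ⊗[A] B j)) :=
      RingHom.ext fun b => by simp
    show (Algebra.TensorProduct.includeRight : B l →ₐ[A] B j ⊗[A] B l).toRingHom.Flat
    rw [h0]
    exact RingHom.Flat.comp (RingHom.flat_algebraMap_iff.mpr inferInstance)
      (RingHom.Flat.of_bijective (Algebra.TensorProduct.comm A (B l) (B j)).bijective)
  have hadd : ι₃ (diff s i l) = ι₁ (diff s i j) + ι₂ (diff s j l) := by
    simp [ι₁, ι₂, ι₃, diff, TensorProduct.tmul_sub, Algebra.TensorProduct.one_def]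
  obtain ⟨n, a, y, ha, hy⟩ := mem_map_annihilator ι₃.toRingHom hflat
    (x := ι₁ e₁ * ι₂ e₂) (z := diff s i l) (by
      show ι₁ e₁ * ι₂ e₂ * ι₃ (diff s i l) = 0
      rw [hadd, mul_add, mul_right_comm, ← map_mul, hz₁, map_zero, zero_mul, mul_assoc, ← map_mul,
        hz₂, map_zero, mul_zero, add_zero])
  let L : B i ⊗[A] (B j ⊗[A] B l) →ₐ[A] K := Algebra.TensorProduct.lift σ
    (Algebra.TensorProduct.lift τ υ fun _ _ => Commute.all _ _) fun _ _ => Commute.all _ _
  have hL₁ : L.comp ι₁ = Algebra.TensorProduct.lift σ τ fun _ _ => Commute.all _ _ :=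
    Algebra.TensorProduct.ext' fun a b => by simp [L, ι₁]
  have hL₂ : L.comp ι₂ = Algebra.TensorProduct.lift τ υ fun _ _ => Commute.all _ _ :=
    Algebra.TensorProduct.ext' fun a b => by simp [L, ι₂]
  have hL₃ : L.comp ι₃ = Algebra.TensorProduct.lift σ υ fun _ _ => Commute.all _ _ :=
    Algebra.TensorProduct.ext' fun a b => by simp [L, ι₃]
  have hne : L (ι₁ e₁ * ι₂ e₂) ≠ 0 := by
    rw [map_mul, ← AlgHom.comp_apply L ι₁, ← AlgHom.comp_apply L ι₂, hL₁, hL₂]
    exact mul_ne_zero he₁ he₂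
  rw [hy, map_sum] at hne
  obtain ⟨m, -, hm⟩ := Finset.exists_ne_zero_of_sum_ne_zero hne
  refine ⟨a m, ?_, ha m⟩
  intro h0
  rw [map_mul] at hm
  refine hm (mul_eq_zero_of_left ?_ _)
  show L.comp ι₃ (a m) = 0
  rw [hL₃, h0]

/-- An element killing the difference of a section with itself, with multiplication one. -/
theorem exists_diag (i : ι) [Algebra.WeaklyEtale A (B i)] :
    ∃ e : B i ⊗[A] B i, Algebra.TensorProduct.lmul' A (S := B i) e = 1 ∧ e * diff s i i = 0 := by
  obtain ⟨e, he, hz⟩ := Groth.L20.exists_lmul_eq_one_mul_eq_zero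
    (Algebra.WeaklyEtale.flat_lmul' A (B i)) (fun _ : Fin 1 => diff s i i) (fun _ => by simp [diff])
  exact ⟨e, he, by rw [mul_comm]; exact hz 0⟩

theorem rel_of_common {i j : ι} {C : Type u} [CommRing C] [Algebra A C] [Module.Flat A C]
    [Algebra.WeaklyEtale A (B i)] [Algebra.WeaklyEtale A (B j)] (a : B i →ₐ[A] C) (b : B j →ₐ[A] C)
    (hab : a (s i) = b (s j)) (θ : C →ₐ[A] K) : Rel s (θ.comp a) (θ.comp b) := by
  let μ : B i ⊗[A] B j →ₐ[A] C := Algebra.TensorProduct.lift a b fun _ _ => Commute.all _ _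
  haveI : Algebra.WeaklyEtale A (B i ⊗[A] B j) := Algebra.WeaklyEtale.trans A (B i) _
  have hflat : μ.toRingHom.Flat := by
    letI := μ.toRingHom.toAlgebra
    haveI : IsScalarTower A (B i ⊗[A] B j) C := IsScalarTower.of_algebraMap_eq fun a => (μ.commutes a).symm
    exact Groth.L20.flat_of_flat_of_flat_lmul (R := A) (T := B i ⊗[A] B j) (M := C)
      (Algebra.WeaklyEtale.flat_lmul' A (B i ⊗[A] B j))
  obtain ⟨n, c, y, hc, hy⟩ := mem_map_annihilator μ.toRingHom hflat (x := (1 : C))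
    (z := diff s i j) (by simp [μ, diff, hab])
  have h1 : θ (∑ m, μ (c m) * y m) ≠ 0 := by
    rw [show ∑ m, μ (c m) * y m = 1 from hy.symm, map_one]
    exact one_ne_zero
  rw [map_sum] at h1
  obtain ⟨m, -, hm⟩ := Finset.exists_ne_zero_of_sum_ne_zero h1
  refine ⟨c m, ?_, hc m⟩
  rw [map_mul] at hm
  have : θ.comp μ = Algebra.TensorProduct.lift (θ.comp a) (θ.comp b) fun _ _ => Commute.all _ _ :=
    Algebra.TensorProduct.ext' fun p q => by simp [μ]
  rw [← this]
  exact left_ne_zero_of_mul hm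

end Groth.L05.HensSheaf
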